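import Cfsg.Agent.Lib.Recog.JankoCentral
import Cfsg.Prelude.Def_KGroupFacts

/-!
Automorphisms of `J₁` are inner.

An automorphism can be corrected by inner ones so that it fixes an element `x` of order 11 and an element `h`
of order 10 in its normaliser; then it maps an element `s` of order 3 in `C(h^6)` to `s` or `s⁻¹`, and `x * s * h`,
`x * s⁻¹ * h` have different orders.
-/

set_option autoImplicit false
set_option maxRecDepth 100000

noncomputable section

namespace Cfsg.Agent.Lib.JankoAut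

open Cfsg.Agent.Lib.Recog.Janko
open scoped Pointwise

/-- element of the table -/
abbrev ge (i : ℕ) (h : i < 577) : J := gel ⟨i, h⟩

def c11 : J := ge 155 (by decide)
def gg : J := ge 1 (by decide) * ge 524 (by decide)
def x : J := gg * c11 * gg⁻¹
def h : J := ge 522 (by decide) * ge 2 (by decide)
def s : J := ge 523 (by decide)
def Y : J := ge 2 (by decide)

/-- the matrix list of `x` -/
def lx : LMat := mulM (mulM (mulM (el 1) (el 524)) (el 155)) (mulM (el 537) (el 308))
def lh : LMat := mulM (el 522) (el 2)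

theorem toM_eq {A B : LMat} (e : A = B) : toM A = toM B := congrArg toM e

theorem gg_inv : gg⁻¹ = ge 537 (by decide) * ge 308 (by decide) := by
  refine inv_eq_of_mul_eq_one_right (mt_injective ?_)
  simp only [gg, mt_mul, mt_gel, M, ← toM_mulM, mt_one, ← toM_oneM]
  exact toM_eq (by decide +kernel)

theorem mt_x : mt x = toM lx := by
  rw [x, gg_inv]
  simp only [gg, c11, mt_mul, mt_gel, M, ← toM_mulM]
  rfl

theorem mt_h : mt h = toM lh := by
  simp only [h, mt_mul, mt_gel, M, ← toM_mulM]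
  rfl

theorem mt_s : mt s = toM (el 523) := mt_gel _

theorem h_pow : h ^ 6 = Y := by
  refine mt_injective ?_
  rw [mt_pow, mt_h, ← toM_powM, Y, mt_gel, M]
  exact toM_eq (by decide +kernel)

theorem hxh : h * x = x ^ 6 * h := by
  refine mt_injective ?_
  rw [mt_mul, mt_mul, mt_pow, mt_h, mt_x, ← toM_powM, ← toM_mulM, ← toM_mulM]
  exact toM_eq (by decide +kernel)

theorem order_c : orderOf c11 = 11 :=
  orderOf_gel_prime _ (by norm_num) (by decide +kernel) (by decide +kernel)

theorem order_x : orderOf x = 11 := by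
  exact (MulEquiv.orderOf_eq (MulAut.conj gg) c11).trans order_c

theorem cent_c : Subgroup.centralizer ({c11} : Set J) = Subgroup.zpowers c11 := by
  refine (Subgroup.eq_of_le_of_card_ge
    (Subgroup.zpowers_le.2 (Subgroup.mem_centralizer_singleton_iff.2 rfl)) ?_).symm
  obtain ⟨-, h2, -⟩ := card_centralizer_of_cert (x := gen11) (c0 := 11) (by norm_num) (by norm_num) (by norm_num) cert11
    (by decide +kernel) (dvd_centralizer_gel _ (by norm_num) (by decide +kernel) (by decide +kernel))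
  rw [Nat.card_zpowers, order_c]
  exact le_of_eq h2

theorem cent_x {a : J} (ha : a * x = x * a) : ∃ j : ℕ, a = x ^ j := by
  have hc : gg⁻¹ * a * gg ∈ Subgroup.zpowers c11 := by
    rw [← cent_c, Subgroup.mem_centralizer_singleton_iff]
    simp only [x] at ha
    calc gg⁻¹ * a * gg * c11 = gg⁻¹ * (a * (gg * c11 * gg⁻¹)) * gg := by group
      _ = c11 * (gg⁻¹ * a * gg) := by rw [ha]; group
  rw [← mem_powers_iff_mem_zpowers] at hc
  obtain ⟨j, hj⟩ := hc
  refine ⟨j, ?_⟩
  have hj' : c11 ^ j = gg⁻¹ * a * gg := hj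
  rw [x, conj_pow, hj']
  group

theorem order_Y : orderOf Y = 5 :=
  orderOf_gel_prime _ (by norm_num) (by decide +kernel) (by decide +kernel)

theorem order_s : orderOf s = 3 :=
  orderOf_gel_prime _ (by norm_num) (by decide +kernel) (by decide +kernel)

theorem comm_Ys : Y * s = s * Y := gel_comm (by decide +kernel)

theorem card_cent_Y : Nat.card (Subgroup.centralizer ({Y} : Set J)) = 30 := by
  have hs : s ∈ Subgroup.centralizer ({Y} : Set J) :=
    Subgroup.mem_centralizer_singleton_iff.2 (gel_comm (by decide +kernel))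
  have ht : ge 522 (by decide) ∈ Subgroup.centralizer ({Y} : Set J) :=
    Subgroup.mem_centralizer_singleton_iff.2 (gel_comm (by decide +kernel))
  have h2 : orderOf (ge 522 (by decide)) = 2 :=
    orderOf_gel_prime _ (by norm_num) (by decide +kernel) (by decide +kernel)
  have k5 := dvd_card_centralizer_self Y
  have k3 := orderOf_dvd_natCard (⟨s, hs⟩ : Subgroup.centralizer ({Y} : Set J))
  have k2 := orderOf_dvd_natCard (⟨_, ht⟩ : Subgroup.centralizer ({Y} : Set J))
  rw [Subgroup.orderOf_mk] at k3 k2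
  rw [order_Y] at k5; rw [order_s] at k3; rw [h2] at k2
  have hc : 30 ∣ Nat.card (Subgroup.centralizer ({Y} : Set J)) := by omega
  exact (card_centralizer_of_cert (x := gen5) (c0 := 30) (by norm_num) (by norm_num) (by norm_num) cert5
    (by decide +kernel) hc).2.1

theorem three_cent_Y {a : J} (h3 : a ^ 3 = 1) (ha : a * Y = Y * a) : a = 1 ∨ a = s ∨ a = s⁻¹ := by
  set C := Subgroup.centralizer ({Y} : Set J)
  have hsY : Y * s ∈ C := Subgroup.mem_centralizer_singleton_iff.2 (by
    rw [mul_assoc, ← comm_Ys])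
  set H := Subgroup.zpowers (⟨Y * s, hsY⟩ : C)
  have ho : orderOf (Y * s) = 15 := by
    rw [(show Commute Y s from comm_Ys).orderOf_mul_eq_mul_orderOf_of_coprime
      (by rw [order_Y, order_s]; norm_num), order_Y, order_s]
  have hidx : H.index = 2 := by
    have h1 := H.card_mul_index
    rw [card_cent_Y, Nat.card_zpowers, Subgroup.orderOf_mk, ho] at h1
    omega
  have haC : a ∈ C := Subgroup.mem_centralizer_singleton_iff.2 ha
  have hsq := Subgroup.mul_self_mem_of_index_two hidx (⟨a, haC⟩ ^ 2)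
  have e : (⟨a, haC⟩ : C) ^ 2 * ⟨a, haC⟩ ^ 2 = ⟨a, haC⟩ := by
    apply Subtype.ext
    show a ^ 2 * a ^ 2 = a
    rw [← pow_add, show 2 + 2 = 3 + 1 from rfl, pow_succ, h3, one_mul]
  rw [e, ← mem_powers_iff_mem_zpowers] at hsq
  obtain ⟨i, hi⟩ := hsq
  have hi' : (Y * s) ^ i = a := congrArg Subtype.val hi
  have hd : 15 ∣ i * 3 := ho ▸ orderOf_dvd_of_pow_eq_one (by rw [pow_mul, hi', h3])
  obtain ⟨m, rfl⟩ : 5 ∣ i := by omega
  have h5 : Y ^ 5 = 1 := order_Y ▸ pow_orderOf_eq_one Y
  have hs3 : s ^ 3 = 1 := order_s ▸ pow_orderOf_eq_one s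
  rw [(show Commute Y s from comm_Ys).mul_pow, pow_mul, h5, one_pow, one_mul] at hi'
  have e3 : a = s ^ (5 * m % 3) := by
    rw [← hi', ← pow_eq_pow_mod (5 * m) hs3]
  have : 5 * m % 3 < 3 := Nat.mod_lt _ (by norm_num)
  interval_cases h : 5 * m % 3
  · exact Or.inl (by simpa using e3)
  · exact Or.inr (Or.inl (by simpa using e3))
  · refine Or.inr (Or.inr ?_)
    rw [e3, eq_inv_iff_mul_eq_one, ← pow_succ, hs3]

theorem eleven {y : J} (hy : orderOf y = 11) : ∃ g : J, ∃ k : ℕ, g⁻¹ * y * g = x ^ k := by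
  haveI := Fact.mk (show Nat.Prime 11 by norm_num)
  have hf : (Nat.card J).factorization 11 = 1 := by
    rw [card_J, show 175560 = 11 * 15960 from rfl, Nat.factorization_mul (by norm_num) (by norm_num),
      Finsupp.add_apply, Nat.Prime.factorization_self (by norm_num),
      Nat.factorization_eq_zero_of_not_dvd (by norm_num)]
  let P : Sylow 11 J := Sylow.ofCard (Subgroup.zpowers x) (by rw [Nat.card_zpowers, order_x, hf, pow_one])
  let Q : Sylow 11 J := Sylow.ofCard (Subgroup.zpowers y) (by rw [Nat.card_zpowers, hy, hf, pow_one])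
  obtain ⟨g, hg⟩ := MulAction.exists_smul_eq J P Q
  have hmem : y ∈ (g • P : Sylow 11 J) := by rw [hg]; exact Subgroup.mem_zpowers y
  have hmem' : y ∈ MulAut.conj g • (P : Subgroup J) := hmem
  have h2 := Subgroup.mem_pointwise_smul_iff_inv_smul_mem.1 hmem'
  rw [MulAut.smul_def, ← map_inv] at h2
  have h3 : g⁻¹ * y * g ∈ (P : Subgroup J) := by simpa using h2
  have hP : (P : Subgroup J) = Subgroup.zpowers x := rfl
  rw [hP] at h3
  rw [← mem_powers_iff_mem_zpowers] at h3
  obtain ⟨k, hk⟩ := h3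
  exact ⟨g, k, hk.symm⟩

theorem six_cycle : ∀ r : Fin 11, r ≠ 0 → ∃ j : Fin 10, 6 ^ (j : ℕ) % 11 = (r : ℕ) := by decide

theorem hxh_pow (j : ℕ) : h ^ j * x * (h ^ j)⁻¹ = x ^ (6 ^ j) := by
  induction j with
  | zero => simp
  | succ j ih =>
    have e : h * x * h⁻¹ = x ^ 6 := by rw [hxh, mul_inv_cancel_right]
    calc h ^ (j + 1) * x * (h ^ (j + 1))⁻¹ = h * (h ^ j * x * (h ^ j)⁻¹) * h⁻¹ := by rw [pow_succ']; group
      _ = _ := by rw [ih, ← conj_pow, e, ← pow_mul, pow_succ' 6]

/-- `X` as a word -/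
def wordX : List J := [h, h, h, s, x, h, s, x, x, s, h, x, h, x]

theorem wordX_eq : wordX.prod = ge 1 (by decide) := by
  refine mt_injective ?_
  simp only [wordX, List.prod_cons, List.prod_nil, mul_one, mt_mul, mt_h, mt_s, mt_x, mt_gel, M, ← toM_mulM]
  exact toM_eq (by decide +kernel)

theorem closure_eq : Subgroup.closure ({x, h, s} : Set J) = ⊤ := by
  set S := Subgroup.closure ({x, h, s} : Set J)
  have hx : x ∈ S := Subgroup.subset_closure (by simp)
  have hh : h ∈ S := Subgroup.subset_closure (by simp)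
  have hs : s ∈ S := Subgroup.subset_closure (by simp)
  have hX : ge 1 (by decide) ∈ S := by
    rw [← wordX_eq]
    refine list_prod_mem fun a ha => ?_
    simp only [wordX, List.mem_cons, List.not_mem_nil, or_false] at ha
    rcases ha with e | e | e | e | e | e | e | e | e | e | e | e | e | e <;> rw [e] <;> first | exact hh | exact hs | exact hx
  have hY : Y ∈ S := h_pow ▸ pow_mem hh 6
  have hJ : Spor.J1 ≤ S.map Spor.J1.subtype := by
    refine (Subgroup.closure_le (k := {Spor.jankoX, Spor.jankoY}) _).2 ?_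
    rintro g (rfl | rfl)
    · exact ⟨_, hX, Units.ext (by
        show mt (ge 1 (by decide)) = _
        rw [mt_gel, M, toM_X]; rfl)⟩
    · exact ⟨_, hY, Units.ext (by
        show mt Y = _
        rw [Y, mt_gel, M, toM_Y]; rfl)⟩
  refine eq_top_iff.2 fun a _ => ?_
  obtain ⟨b, hb, hab⟩ := hJ a.2
  rwa [← Subtype.ext hab (a1 := b) (a2 := a)]

theorem inner (φ : MulAut J) : φ ∈ Cfsg.Inn J := by
  obtain ⟨g, k, hk⟩ := eleven (y := φ x) ((MulEquiv.orderOf_eq φ x).trans order_x)
  have hk0 : k % 11 ≠ 0 := by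
    intro h0
    have e : x ^ k = 1 := orderOf_dvd_iff_pow_eq_one.1 (order_x.symm ▸ Nat.dvd_of_mod_eq_zero h0)
    rw [e] at hk
    have e2 : φ x = 1 := by
      calc φ x = g * (g⁻¹ * φ x * g) * g⁻¹ := by group
        _ = 1 := by rw [hk]; group
    have := order_x
    rw [(map_eq_one_iff φ φ.injective).1 e2, orderOf_one] at this
    norm_num at this
  obtain ⟨j, hj⟩ := six_cycle ⟨k % 11, Nat.mod_lt _ (by norm_num)⟩ (fun e => hk0 (congrArg Fin.val e))
  simp only at hj
  set φ₁ : MulAut J := MulAut.conj ((h ^ (j : ℕ))⁻¹ * g⁻¹) * φ with hφ₁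
  have h1 : φ₁ x = x := by
    rw [hφ₁, MulAut.mul_apply, MulAut.conj_apply]
    calc (h ^ (j : ℕ))⁻¹ * g⁻¹ * φ x * ((h ^ (j : ℕ))⁻¹ * g⁻¹)⁻¹
        = (h ^ (j : ℕ))⁻¹ * (g⁻¹ * φ x * g) * h ^ (j : ℕ) := by group
      _ = x := by
        rw [hk, show x ^ k = x ^ (6 ^ (j : ℕ)) by
          rw [pow_eq_pow_iff_modEq, order_x]; exact hj.symm, ← hxh_pow]
        group
  have h2 : φ₁ h * x = x ^ 6 * φ₁ h := by
    have := congrArg φ₁ hxh
    simpa [map_mul, map_pow, h1] using this
  obtain ⟨i, hi⟩ := cent_x (a := φ₁ h * h⁻¹) (by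
    calc φ₁ h * h⁻¹ * x = φ₁ h * h⁻¹ * x * (h * h⁻¹) := by group
      _ = φ₁ h * (h⁻¹ * (x * h)) * h⁻¹ := by group
      _ = _ := by
        have e6 : (x ^ 6) ^ 2 = x := by
          rw [← pow_mul, show 6 * 2 = 11 + 1 from rfl, pow_succ,
            show x ^ 11 = 1 by have := pow_orderOf_eq_one x; rwa [order_x] at this, one_mul]
        have e1 : x * h = h * x ^ 2 := by
          calc x * h = (x ^ 6) ^ 2 * h := by rw [e6]
            _ = (h * x * h⁻¹) ^ 2 * h := by rw [hxh, mul_inv_cancel_right]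
            _ = h * x ^ 2 := by rw [conj_pow]; group
        rw [e1, inv_mul_cancel_left]
        calc φ₁ h * x ^ 2 * h⁻¹ = (φ₁ h * x * (φ₁ h)⁻¹) ^ 2 * φ₁ h * h⁻¹ := by rw [conj_pow]; group
          _ = x * (φ₁ h * h⁻¹) := by rw [h2, mul_inv_cancel_right, e6, mul_assoc])
  -- `x ^ i h = x ^ i' h x ^ (-i')`
  set m := (9 * i) % 11 with hm
  set φ₂ : MulAut J := MulAut.conj (x ^ m) * φ₁ with hφ₂
  have g1 : φ₂ x = x := by
    rw [hφ₂, MulAut.mul_apply, h1, MulAut.conj_apply, ← (Commute.self_pow x m).eq, mul_inv_cancel_right]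
  have g2 : φ₂ h = h := by
    have hφh : φ₁ h = x ^ i * h := by rw [← hi, inv_mul_cancel_right]
    rw [hφ₂, MulAut.mul_apply, hφh, MulAut.conj_apply, mul_inv_eq_iff_eq_mul, ← mul_assoc, ← pow_add]
    have : h * x ^ m = x ^ (6 * m) * h := by
      rw [pow_mul, ← mul_inv_eq_iff_eq_mul, ← conj_pow]
      rw [hxh, mul_inv_cancel_right]
    rw [this]
    congr 1
    rw [pow_eq_pow_iff_modEq, order_x, Nat.ModEq, hm]
    omega
  have g3 : φ₂ Y = Y := by rw [← h_pow, map_pow, g2]
  have hne : φ₂ s ≠ 1 := fun e => by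
    have := order_s
    rw [(map_eq_one_iff φ₂ φ₂.injective).1 e, orderOf_one] at this
    norm_num at this
  have g4 : φ₂ s = s := by
    rcases three_cent_Y (a := φ₂ s)
      (by rw [← map_pow, show s ^ 3 = 1 from order_s ▸ pow_orderOf_eq_one s, map_one])
      (by conv_lhs => rw [← g3]
          conv_rhs => rw [← g3]
          rw [← map_mul, ← map_mul, comm_Ys]) with e | e | e
    · exact absurd e hne
    · exact e
    · exfalso
      have hs2 : s⁻¹ = s * s := inv_eq_of_mul_eq_one_right (by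
        rw [← pow_three]; exact order_s ▸ pow_orderOf_eq_one s)
      have h7 : (x * s⁻¹ * h) ^ 7 = 1 := by
        refine mt_injective ?_
        rw [mt_pow, hs2, mt_mul, mt_mul, mt_mul, mt_x, mt_s, mt_h, mt_one, ← toM_mulM, ← toM_mulM, ← toM_mulM,
          ← toM_powM, ← toM_oneM]
        exact toM_eq (by decide +kernel)
      have h19 : (x * s * h) ^ 7 ≠ 1 := by
        intro e
        have := congrArg Recog.Janko.mt e
        rw [mt_pow, mt_mul, mt_mul, mt_x, mt_s, mt_h, mt_one, ← toM_mulM, ← toM_mulM, ← toM_powM] at this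
        exact ne_one_of_notOne (by decide +kernel) this
      apply h19
      apply φ₂.injective
      rw [map_pow, map_mul, map_mul, g1, g2, e, h7, map_one]
  have hid : φ₂ = 1 := by
    refine MulEquiv.ext fun a => ?_
    have := MonoidHom.eqOn_closure (f := φ₂.toMonoidHom) (g := MonoidHom.id J)
      (show Set.EqOn φ₂.toMonoidHom (MonoidHom.id J) {x, h, s} by
        rintro b (e | e | e)
        · rw [e]; exact g1
        · rw [e]; exact g2
        · rw [Set.mem_singleton_iff.1 e]; exact g4)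
    exact this (closure_eq.symm ▸ Subgroup.mem_top a)
  have hmem : φ₂ ∈ Cfsg.Inn J := hid ▸ one_mem _
  have hc : ∀ a : J, MulAut.conj a ∈ Cfsg.Inn J := fun a => MonoidHom.mem_range.2 ⟨a, rfl⟩
  rwa [hφ₂, hφ₁, Subgroup.mul_mem_cancel_left _ (hc _), Subgroup.mul_mem_cancel_left _ (hc _)] at hmem

theorem card_out : Nat.card (Cfsg.Out J) = 1 :=
  Subgroup.index_eq_one.2 (eq_top_iff.2 fun φ _ => inner φ)

end Cfsg.Agent.Lib.JankoAut
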